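import Cfsg.Agent.Lib.Cert.A6.Tw
import Cfsg.Agent.Lib.Cert.Lin

set_option autoImplicit false
set_option maxRecDepth 100000

namespace Cfsg.Agent.Ct.A6

open Cfsg.Agent.PC

open Cfsg.Agent.Fi Cfsg.Agent.Ct
def Tf_t : TN := (TN.leaf (nat_lit 0x1ca8172941ab088ea21d888))
noncomputable def Tf (i : ℕ) : ℕ := get9 Tf_t (nat_lit 3) (nat_lit 7) i
noncomputable def T (j c : ℕ) : ℕ := Tf (Nat.add (Nat.mul j (nat_lit 6)) c)
noncomputable def p0 : ℕ → ℕ := permE T inv (nat_lit 6) (nat_lit 5)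
theorem pp0 : Nat.beq (rng p0 (nat_lit 0) (nat_lit 6)) (nat_lit 0) = true := by decide +kernel
theorem hp : ∀ i < 6, p0 i = 0 := by
  have h := zero_lt_zero p0
  have h := zero_lt_add (a := (nat_lit 0)) (n := (nat_lit 6)) (b := (nat_lit 6)) h pp0 rfl
  exact h
abbrev pt : ℕ → Fin 6 := (finLab 5).pt
noncomputable def pf : ℕ → Equiv.Perm (Fin 6) := (finLab 5).fam T inv
theorem pr : Reps pt 6 pf T 5 ∧ InvOK pf inv 5 := (finLab 5).reps_fam (by decide +kernel) hp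
noncomputable def x1 : ℕ → ℕ := relF T rels
theorem yy0 : Nat.beq (rng x1 (nat_lit 0) (nat_lit 6)) (nat_lit 0) = true := by decide +kernel
theorem hy : ∀ i < 6, x1 i = 0 := by
  have h := zero_lt_zero x1
  have h := zero_lt_add (a := (nat_lit 0)) (n := (nat_lit 6)) (b := (nat_lit 6)) h yy0 rfl
  exact h
theorem rl0 : ∀ w ∈ rels, ev pf w = 1 := rel_of_tab (finLab 5).surj pr.1 (by decide +kernel) hy
abbrev P : Type := ↥(gen pf 5)
noncomputable def al : ℕ → P := PC.sub (gen pf 5) pf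
theorem rp : Reps pt 6 al T 5 := (pr.1.mono (by decide)).sub le_rfl
theorem top : gen al 5 = ⊤ := gen_sub_top rfl
def W0_t : TL := (TL.node (TL.node (TL.leaf [nat_lit 3, nat_lit 0, nat_lit 2, nat_lit 3]) (TL.leaf [nat_lit 4, nat_lit 0, nat_lit 3, nat_lit 2, nat_lit 4, nat_lit 3])) (TL.node (TL.leaf [nat_lit 4, nat_lit 3, nat_lit 2, nat_lit 3]) (TL.leaf [nat_lit 4, nat_lit 0, nat_lit 3, nat_lit 2, nat_lit 3, nat_lit 1, nat_lit 2])))
noncomputable def W0 (i : ℕ) : List ℕ := TL.get W0_t i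
def Q0f_t : TN := (TN.leaf (nat_lit 0x2d414d614a5a10d6a0))
noncomputable def Q0f (i : ℕ) : ℕ := get9 Q0f_t (nat_lit 3) (nat_lit 7) i
noncomputable def Q0 (j c : ℕ) : ℕ := Q0f (Nat.add (Nat.mul j (nat_lit 6)) c)
noncomputable def q0 (j : ℕ) : P := ev al (W0 j)
noncomputable def c0 : ℕ → ℕ := tabE T Q0 W0 (nat_lit 4)
theorem cc0 : Nat.beq (rng c0 (nat_lit 0) (nat_lit 6)) (nat_lit 0) = true := by decide +kernel
theorem hc : ∀ i < 6, c0 i = 0 := by
  have h := zero_lt_zero c0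
  have h := zero_lt_add (a := (nat_lit 0)) (n := (nat_lit 6)) (b := (nat_lit 6)) h cc0 rfl
  exact h
def CV0_t : TN := (TN.leaf (nat_lit 0x30b0ce11))
noncomputable def CV0 (i : ℕ) : ℕ := get9 CV0_t (nat_lit 5) (nat_lit 31) i
def CV1_t : TN := (TN.leaf (nat_lit 0x21100559))
noncomputable def CV1 (i : ℕ) : ℕ := get9 CV1_t (nat_lit 5) (nat_lit 31) i
def CV2_t : TN := (TN.leaf (nat_lit 0x21100121))
noncomputable def CV2 (i : ℕ) : ℕ := get9 CV2_t (nat_lit 5) (nat_lit 31) i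
def CV3_t : TN := (TN.leaf (nat_lit 0x11000020))
noncomputable def CV3 (i : ℕ) : ℕ := get9 CV3_t (nat_lit 5) (nat_lit 31) i
noncomputable def l0 : Lev := ⟨(nat_lit 3), (nat_lit 6), (nat_lit 3), CV0⟩
noncomputable def lt : List Lev := [⟨(nat_lit 2), (nat_lit 5), (nat_lit 2), CV1⟩, ⟨(nat_lit 0), (nat_lit 4), (nat_lit 1), CV2⟩, ⟨(nat_lit 1), (nat_lit 3), (nat_lit 0), CV3⟩]
theorem ch : Ch pt 6 q0 Q0 4 8 (l0 :: lt) :=
  ⟨(finLab 5).inj, reps_tabs (rp) (by decide +kernel) hc, by decide +kernel, cardLE_sub (ub5 pr.2 rl0)⟩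
def SO_t : TN := (TN.leaf (nat_lit 2666))
noncomputable def SO (i : ℕ) : ℕ := get9 SO_t (nat_lit 2) (nat_lit 3) i
def SV_t : TN := (TN.leaf (nat_lit 0x2110a921))
noncomputable def SV (i : ℕ) : ℕ := get9 SV_t (nat_lit 5) (nat_lit 31) i
def rt (i : ℕ) : ℕ := Nat.land (Nat.shiftRight (nat_lit 12) (Nat.mul (nat_lit 2) i)) (nat_lit 3)
def sz (i : ℕ) : ℕ := Nat.land (Nat.shiftRight (nat_lit 328) (Nat.mul (nat_lit 3) i)) (nat_lit 7)
noncomputable def s0 : ℕ → ℕ := soE Q0 (nat_lit 3) (nat_lit 6) (nat_lit 8) (nat_lit 2) SV SO rt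
theorem ss0 : Nat.beq (rng s0 (nat_lit 0) (nat_lit 6)) (nat_lit 0) = true := by decide +kernel
theorem hs : ∀ i < 6, s0 i = 0 := by
  have h := zero_lt_zero s0
  have h := zero_lt_add (a := (nat_lit 0)) (n := (nat_lit 6)) (b := (nat_lit 6)) h ss0 rfl
  exact h
theorem hsz : ∀ i ≤ 2, 1 ≤ i → cnt SO i 6 = sz i := by decide +kernel
theorem coatom : IsCoatom (MulAction.stabilizer P (pt 3)) :=
  ch.coatom (by decide +kernel) hs sz hsz (k0 := 1) (by decide +kernel) (by decide +kernel)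
def B0 : List ℕ := [nat_lit 3, nat_lit 2, nat_lit 0, nat_lit 1]
theorem md0 : Md pt 6 B0 al T 5 := ch.md (rp) rfl
theorem card : Nat.card P = 360 := ch.card
instance : Finite P := ch.fin
theorem iv : InvOK al inv 5 := pr.2.sub le_rfl
theorem rl : ∀ w ∈ rels, ev al w = 1 := rels_sub (by decide +kernel) rl0
theorem ub : Ub inv rels 5 (Nat.card P) := fun _ _ _ h1 h2 => card ▸ ub5 h1 h2

end Cfsg.Agent.Ct.A6
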